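import Groth.Agent.ResProp.K234.TopVan
import Groth.Agent.S0025
import Groth.Agent.CalgB.AmpleProj
import Groth.Agent.CalgB.ProjField
import Groth.Agent.EGA4.K110.DimFib
import Groth.Agent.S1573

/-!
# Chow's lemma with an ample module and without growth of dimension

* `stalk_le`: `dim O_{X,x} ≤ dim O_{Y,f x}` if the fibres of `f` through the maximal points of `X` are of dimension `≤ 0`;
* `exists_chow`: `Y` proper over a Noetherian ring receives a proper surjective map from `Y'` with an ample module,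
  `dim Y' ≤ dim Y`, which is injective over the generic points.
-/

set_option autoImplicit false
universe u

open CategoryTheory Limits Opposite TopologicalSpace AlgebraicGeometry K234.DimProper K234.TopVan

namespace K399.Chow

open Groth.Agent Groth.Agent.CycB Groth.Agent.CycB.RelDim

theorem ringKrullDim_le_of_minimal {R : Type*} [CommRing R] (b : WithBot ℕ∞)
    (h : ∀ (P : Ideal R), P ∈ minimalPrimes R → ringKrullDim (R ⧸ P) ≤ b) : ringKrullDim R ≤ b := by
  refine K110.DimFib.ringKrullDim_le_of_quotient b fun P hP => ?_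
  obtain ⟨Q, hQ, hQP⟩ := Ideal.exists_minimalPrimes_le (I := (⊥ : Ideal R)) (J := P) bot_le
  exact (ringKrullDim_le_of_surjective (Ideal.Quotient.factor hQP) (Ideal.Quotient.factor_surjective hQP)).trans
    (h Q hQ)

/-- If the fibres through the maximal points have dimension `0` then `dim O_{X,x} ≤ dim O_{Y,f x}`. -/
theorem stalk_le {X Y : Scheme.{u}} [IsLocallyNoetherian Y] (f : X ⟶ Y) [LocallyOfFiniteType f]
    (h : ∀ ζ : X, (∀ z : X, z ⤳ ζ → z = ζ) → topologicalKrullDim (f.fiber (f ζ)) ≤ 0) (x : X) :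
    ringKrullDim (X.presheaf.stalk x) ≤ ringKrullDim (Y.presheaf.stalk (f x)) := by
  refine ringKrullDim_le_of_minimal _ fun P hP => ?_
  have hPp : P.IsPrime := hP.1.1
  obtain ⟨ζ, hζ, rfl⟩ := LocQuot.exists_eq_ker P
  have hmax : ∀ z : X, z ⤳ ζ → z = ζ := by
    intro z hz
    have h1 : RingHom.ker (Cyc.specMap x z (hz.trans hζ)) ≤ RingHom.ker (Cyc.specMap x ζ hζ) :=
      (LocQuot.ker_le_iff _ _).2 hz
    have h2 := hP.2 (y := RingHom.ker (Cyc.specMap x z (hz.trans hζ))) ⟨inferInstance, bot_le⟩ h1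
    exact (((LocQuot.ker_le_iff _ _).1 h2).antisymm hz).eq.symm
  obtain ⟨dX, dY, hX, hY, hle⟩ := DimIneq.dim_ineq f hζ
  obtain ⟨m, hm, hm'⟩ := exists_dim_closure_fiber f (f ζ) (f.asFiber ζ)
  rw [Scheme.Hom.fiberι_asFiber] at hm
  have hm0 : m = 0 := by
    have h1 : topologicalKrullDim (closure {f.asFiber ζ} : Set (f.fiber (f ζ))) ≤
        topologicalKrullDim (f.fiber (f ζ)) := topologicalKrullDim_subspace_le _ _
    rw [hm'] at h1
    have h2 : m ≤ 0 := by exact_mod_cast h1.trans (h ζ hmax)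
    omega
  change (dX : Cardinal.{u}) + rtd f x ≤ (dY : Cardinal.{u}) + rtd f ζ at hle
  rw [hm, hm0] at hle
  have h2 : dX ≤ dY := by
    have : (dX : Cardinal.{u}) ≤ dY := by
      refine le_trans (le_add_right le_rfl) (hle.trans ?_)
      simp
    exact_mod_cast this
  change ringKrullDim (Cyc.LocQuot x ζ hζ) ≤ _
  have h3 : ringKrullDim (Cyc.LocQuot (f x) (f ζ) (hζ.map f.continuous)) ≤
      ringKrullDim (Y.presheaf.stalk (f x)) := ringKrullDim_quotient_le _
  rw [hX]
  rw [hY] at h3
  exact (by exact_mod_cast h2 : (dX : WithBot ℕ∞) ≤ (dY : WithBot ℕ∞)).trans h3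

theorem dim_le {X Y : Scheme.{u}} [IsLocallyNoetherian Y] (f : X ⟶ Y) [LocallyOfFiniteType f]
    (h : ∀ ζ : X, (∀ z : X, z ⤳ ζ → z = ζ) → topologicalKrullDim (f.fiber (f ζ)) ≤ 0) :
    topologicalKrullDim X ≤ topologicalKrullDim Y := by
  rw [K110.DimFib.topologicalKrullDim_eq X]
  exact iSup_le fun x => (stalk_le f h x).trans (K110.DimFib.stalk_le_dim Y _)

theorem topologicalKrullDim_subsingleton {X : Type*} [TopologicalSpace X] [Subsingleton X] :
    topologicalKrullDim X ≤ 0 :=
  topologicalKrullDim_zero_of_discreteTopology _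

variable {X Y : Scheme.{u}} (π : X ⟶ Y) (U : Y.Opens) [IsIso (π ∣_ U)]

theorem injective_over {a b : X} (ha : π a ∈ U) (h : π a = π b) : a = b := by
  have hb : π b ∈ U := h ▸ ha
  have hinj : Function.Injective (π ∣_ U) := (π ∣_ U).isOpenEmbedding.injective
  have h1 : (π ∣_ U) ⟨a, ha⟩ = (π ∣_ U) ⟨b, hb⟩ := by
    apply Subtype.ext
    exact (morphismRestrict_base_coe π U ⟨a, ha⟩).trans (h.trans (morphismRestrict_base_coe π U ⟨b, hb⟩).symm)
  exact congrArg Subtype.val (hinj h1)

theorem exists_over {u : Y} (hu : u ∈ U) : ∃ a, π a = u := by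
  have hs : Function.Surjective (π ∣_ U) := (π ∣_ U).surjective
  obtain ⟨a, ha⟩ := hs ⟨u, hu⟩
  refine ⟨a.1, ?_⟩
  exact (morphismRestrict_base_coe π U a).symm.trans (congrArg Subtype.val ha)

theorem specializes_over {a b : X} (ha : π a ∈ U) (hb : π b ∈ U) (h : π a ⤳ π b) : a ⤳ b := by
  have h2 : (π ∣_ U) ⟨a, ha⟩ ⤳ (π ∣_ U) ⟨b, hb⟩ := by
    refine U.ι.isOpenEmbedding.isInducing.specializes_iff.1 ?_
    have e1 : U.ι ((π ∣_ U) ⟨a, ha⟩) = π a := morphismRestrict_base_coe π U ⟨a, ha⟩
    have e2 : U.ι ((π ∣_ U) ⟨b, hb⟩) = π b := morphismRestrict_base_coe π U ⟨b, hb⟩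
    rw [e1, e2]
    exact h
  have h3 := (π ∣_ U).isOpenEmbedding.isInducing.specializes_iff.1 h2
  exact (π ⁻¹ᵁ U).ι.isOpenEmbedding.isInducing.specializes_iff.2 h3

/-- Chow's lemma with an ample module and without growth of dimension. -/
theorem exists_chow {A : Type u} [CommRing A] [IsNoetherianRing A] {Y : Scheme.{u}}
    (p : Y ⟶ Spec (CommRingCat.of A)) [IsProper p] :
    ∃ (Y' : Scheme.{u}) (h : Y' ⟶ Y) (L : Y'.Modules),
      IsProper h ∧ Surjective h ∧ CohB1.IsAmple L ∧
      topologicalKrullDim Y' ≤ topologicalKrullDim Y ∧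
      ∀ y' : Y', (∀ z : Y', z ⤳ y' → z = y') →
        (∀ z : Y, z ⤳ h y' → z = h y') ∧ ∀ z : Y', h z = h y' → z = y' := by
  have hSN : IsNoetherian (Spec (CommRingCat.of A)) := inferInstance
  have hYN : IsLocallyNoetherian Y := LocallyOfFiniteType.isLocallyNoetherian p
  obtain ⟨n, X', π, j, hj, hjb, hπ, hπs, U, hU, hiso⟩ := Groth.Agent.S0025.result p
  have hX'N : IsLocallyNoetherian X' := LocallyOfFiniteType.isLocallyNoetherian π
  let Z : Closeds X' := ⟨closure ((π ⁻¹ᵁ U : X'.Opens) : Set X'), isClosed_closure⟩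
  let I := Scheme.IdealSheafData.vanishingIdeal Z
  have hI : Set.range I.subschemeι = closure ((π ⁻¹ᵁ U : X'.Opens) : Set X') := by
    rw [Scheme.IdealSheafData.range_subschemeι, Scheme.IdealSheafData.coe_support_vanishingIdeal]
    rfl
  let h : I.subscheme ⟶ Y := I.subschemeι ≫ π
  have hh : ∀ z, h z = π (I.subschemeι z) := fun z => rfl
  have hιinj : Function.Injective I.subschemeι := I.subschemeι.isClosedEmbedding.injective
  have hprop : IsProper h := inferInstance
  have hLN : IsLocallyNoetherian I.subscheme := LocallyOfFiniteType.isLocallyNoetherian h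
  have hcomp : CompactSpace I.subscheme := by
    have : QuasiCompact (h ≫ p) := inferInstance
    exact (quasiCompact_iff_compactSpace (f := h ≫ p)).1 this
  have hsurjU : ∀ u ∈ U, ∃ z, h z = u := by
    intro u hu
    obtain ⟨a, ha⟩ := exists_over π U hu
    have : a ∈ Set.range I.subschemeι := by
      rw [hI]
      exact subset_closure (show π a ∈ U from ha ▸ hu)
    obtain ⟨z, rfl⟩ := this
    exact ⟨z, ha⟩
  have hsurj : Surjective h := by
    constructor
    have hcl : IsClosed (Set.range h) := h.isClosedMap.isClosed_range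
    have hd : Dense (Set.range h) := hU.mono fun u hu => hsurjU u hu
    rw [← Set.range_eq_univ, ← hcl.closure_eq]
    exact hd.closure_eq
  have hinj : ∀ a b, h a ∈ U → h a = h b → a = b := fun a b ha hab =>
    hιinj (injective_over π U ha hab)
  have hdense : Dense ((h ⁻¹ᵁ U : I.subscheme.Opens) : Set I.subscheme) := by
    intro z
    have hz : I.subschemeι z ∈ closure ((π ⁻¹ᵁ U : X'.Opens) : Set X') := hI ▸ ⟨z, rfl⟩
    rw [I.subschemeι.isClosedEmbedding.isInducing.closure_eq_preimage_closure_image]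
    refine closure_mono ?_ hz
    intro a ha
    have : a ∈ Set.range I.subschemeι := by
      rw [hI]
      exact subset_closure ha
    obtain ⟨b, rfl⟩ := this
    exact ⟨b, ha, rfl⟩
  have hmaxU : ∀ ζ : I.subscheme, (∀ z, z ⤳ ζ → z = ζ) → h ζ ∈ U := fun ζ hζ =>
    Groth.Agent.S1573.mem_of_dense I.subscheme (h ⁻¹ᵁ U) hdense ζ hζ
  obtain ⟨L, hL⟩ : ∃ L : I.subscheme.Modules, CohB1.IsAmple L := by
    have himm : IsImmersion (I.subschemeι ≫ j) := inferInstance
    have hqc : QuasiCompact (I.subschemeι ≫ j) := by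
      have : QuasiCompact ((I.subschemeι ≫ j) ≫ CohB1.ProjSpaceOver.toBase n _) := by
        rw [Category.assoc, hjb, ← Category.assoc]
        infer_instance
      have : QuasiSeparated (CohB1.ProjSpaceOver.toBase n (Spec (CommRingCat.of A))) := inferInstance
      exact QuasiCompact.of_comp _ (CohB1.ProjSpaceOver.toBase n _)
    exact Groth.Agent.CalgB.AmpleProj.exists_isAmple_of_immersion
      (Groth.Agent.CalgB.ProjField.exists_isAmple_of_isAffine _) (I.subschemeι ≫ j)
  refine ⟨I.subscheme, h, L, hprop, hsurj, hL, dim_le h fun ζ hζ => ?_, fun y' hy' => ⟨?_, ?_⟩⟩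
  · rw [Groth.Agent.FlatA.FibreDim.topologicalKrullDim_fiber_eq]
    have : Subsingleton ↥((h : I.subscheme → Y) ⁻¹' {h ζ}) := by
      refine ⟨fun a b => Subtype.ext ?_⟩
      have ha : h a.1 = h ζ := a.2
      have hb : h b.1 = h ζ := b.2
      exact hinj a.1 b.1 (by rw [ha]; exact hmaxU ζ hζ) (ha.trans hb.symm)
    exact topologicalKrullDim_subsingleton
  · intro z hz
    have hzU : z ∈ U := hz.mem_open U.2 (hmaxU y' hy')
    obtain ⟨z', rfl⟩ := hsurjU z hzU
    have h1 : I.subschemeι z' ⤳ I.subschemeι y' := specializes_over π U hzU (hmaxU y' hy') hz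
    have h2 : z' ⤳ y' := I.subschemeι.isClosedEmbedding.isInducing.specializes_iff.1 h1
    rw [hy' z' h2]
  · intro z hz
    exact (hinj y' z (hmaxU y' hy') hz.symm).symm

end K399.Chow
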