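import Groth.Agent.ResProp.K234.TopVan

/-!
# Cohomology in high degrees only sees the complement of a small closed set

* `HH_of_restrict_iso`: if `M` and `N` are isomorphic off a closed set of dimension `< d - 1` then `H^n(X, M) = 0` gives
  `H^n(X, N) = 0` for `n ≥ d`;
* `dimLt_compl`: an open of a Noetherian scheme of dimension `≤ d` containing all points of codimension `≤ 1` has a
  complement of dimension `< d - 1`.
-/

set_option autoImplicit false
universe u

open CategoryTheory Limits Opposite TopologicalSpace AlgebraicGeometry K234.DimProper K234.TopVan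

namespace K399.OffCodim2

open Groth.Agent.VarietyA.StalkCrit Groth.Agent.CycB.StalkExact

/-- A morphism whose restriction to the open `W` is an isomorphism is bijective on the stalks at the points of `W`. -/
theorem isIso_stalk_of_restrict {X : Scheme.{u}} (W : X.Opens) {M N : X.Modules} (φ : M ⟶ N)
    (h : IsIso ((Scheme.Modules.restrictFunctor W.ι).map φ)) (x : X) (hx : x ∈ W) : IsIso ((stalkFun x).map φ) := by
  let x' : W := ⟨x, hx⟩
  have h1 : IsIso ((Scheme.Modules.restrictFunctor W.ι ⋙ Scheme.Modules.toPresheaf _ ⋙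
      TopCat.Presheaf.stalkFunctor Ab.{u} x').map φ) := by
    rw [Functor.comp_map]
    infer_instance
  exact (NatIso.isIso_map_iff (Scheme.Modules.restrictStalkNatIso W.ι x') φ).1 h1

theorem small_of_isIso_stalk {X : Scheme.{u}} {e : ℕ} (W : X.Opens) (hW : DimLt ((W : Set X)ᶜ) e) {M N : X.Modules}
    (φ : M ⟶ N) (h : ∀ x ∈ W, IsIso ((stalkFun x).map φ)) : Small (kernel φ) e ∧ Small (cokernel φ) e := by
  have hb : ∀ x ∈ W, Function.Bijective (stalkLin φ x) := by
    intro x hx
    have := h x hx
    exact (ConcreteCategory.isIso_iff_bijective ((stalkFun x).map φ)).1 this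
  have hWc : IsClosed ((W : Set X)ᶜ) := W.isOpen.isClosed_compl
  refine ⟨⟨_, hWc, hW, fun x hx => ?_⟩, ⟨_, hWc, hW, fun x hx => ?_⟩⟩
  · rw [Set.notMem_compl_iff] at hx
    exact (subsingleton_kernel_stalk_iff φ x).2 (hb x hx).1
  · rw [Set.notMem_compl_iff] at hx
    exact (subsingleton_cokernel_stalk_iff φ x).2 (hb x hx).2

/-- The unit of restriction and push-forward along an open is an isomorphism on the open. -/
theorem isIso_restrict_unit {X : Scheme.{u}} (W : X.Opens) (M : X.Modules) :
    IsIso ((Scheme.Modules.restrictFunctor W.ι).map ((Scheme.Modules.restrictAdjunction W.ι).unit.app M)) := by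
  have h := (Scheme.Modules.restrictAdjunction W.ι).left_triangle_components M
  have h2 : IsIso ((Scheme.Modules.restrictAdjunction W.ι).counit.app
      ((Scheme.Modules.restrictFunctor W.ι).obj M)) := inferInstance
  have h3 : IsIso ((Scheme.Modules.restrictFunctor W.ι).map ((Scheme.Modules.restrictAdjunction W.ι).unit.app M) ≫
      (Scheme.Modules.restrictAdjunction W.ι).counit.app ((Scheme.Modules.restrictFunctor W.ι).obj M)) := by
    rw [h]
    infer_instance
  exact IsIso.of_isIso_comp_right _ ((Scheme.Modules.restrictAdjunction W.ι).counit.app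
      ((Scheme.Modules.restrictFunctor W.ι).obj M))

theorem HH_of_restrict_iso {X : Scheme.{u}} [NoetherianSpace X] (d : ℕ) (hd : 1 ≤ d) (W : X.Opens)
    (hW : DimLt ((W : Set X)ᶜ) (d - 1)) (M N : X.Modules) (e : M.restrict W.ι ≅ N.restrict W.ι)
    (n : ℕ) (hn : d ≤ n) (h : Subsingleton (Coh.HH X M n)) : Subsingleton (Coh.HH X N n) := by
  let ad := Scheme.Modules.restrictAdjunction W.ι
  let a : M ⟶ (Scheme.Modules.pushforward W.ι).obj (N.restrict W.ι) :=
    ad.unit.app M ≫ (Scheme.Modules.pushforward W.ι).map e.hom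
  let b : N ⟶ (Scheme.Modules.pushforward W.ι).obj (N.restrict W.ι) := ad.unit.app N
  have ha : ∀ x ∈ W, IsIso ((stalkFun x).map a) := by
    intro x hx
    have h1 := isIso_stalk_of_restrict W _ (isIso_restrict_unit W M) x hx
    have h2 : (stalkFun x).map a = (stalkFun x).map (ad.unit.app M) ≫
        (stalkFun x).map ((Scheme.Modules.pushforward W.ι).map e.hom) := Functor.map_comp _ _ _
    rw [h2]
    have h3 : IsIso ((stalkFun x).map (ad.unit.app M)) := h1
    infer_instance
  have hb : ∀ x ∈ W, IsIso ((stalkFun x).map b) := fun x hx =>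
    isIso_stalk_of_restrict W _ (isIso_restrict_unit W N) x hx
  have hsq : ∀ x : X, IsPullback ((stalkFun x).map (pullback.fst a b)) ((stalkFun x).map (pullback.snd a b))
      ((stalkFun x).map a) ((stalkFun x).map b) := fun x => (IsPullback.of_hasPullback a b).map (stalkFun x)
  have hfst : ∀ x ∈ W, IsIso ((stalkFun x).map (pullback.fst a b)) := fun x hx => by
    have := hb x hx
    exact (hsq x).isIso_fst_of_isIso
  have hsnd : ∀ x ∈ W, IsIso ((stalkFun x).map (pullback.snd a b)) := fun x hx => by
    have := ha x hx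
    exact (hsq x).isIso_snd_of_isIso
  obtain ⟨k1, c1⟩ := small_of_isIso_stalk W hW (pullback.fst a b) hfst
  obtain ⟨k2, c2⟩ := small_of_isIso_stalk W hW (pullback.snd a b) hsnd
  refine of_coker (pullback.snd a b) n (c2.HH n (by omega)) (k2.HH (n + 1) (by omega)) ?_
  exact of_ker_coker (pullback.fst a b) n (k1.HH n (by omega)) (fun m hm => c1.HH m (by omega)) h

theorem dim_bound {X : Scheme.{u}} (d : ℕ) (hX : topologicalKrullDim X ≤ d) (z : X)
    (h2 : ¬ ringKrullDim (X.presheaf.stalk z) ≤ 1) (n : ℕ) (q : LTSeries (IrreducibleCloseds X)) (hq : q.length = n)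
    (hz : closure {z} = (q.last : Set X)) : n + 2 ≤ d := by
  rw [ringKrullDim_stalk_eq_coheight] at h2
  have h3 : (2 : ℕ∞) ≤ Order.coheight z := by
    by_contra h
    apply h2
    rw [not_le] at h
    have h' : Order.coheight z ≤ 1 := by
      rw [← ENat.lt_add_one_iff (by decide)]
      exact h.trans_le (by norm_num)
    exact_mod_cast h'
  have h4 : (n : ℕ∞) ≤ Order.height z := by
    rw [← hq]
    have he : irreducibleSetEquivPoints (α := X) q.last = z := by
      rw [← OrderIso.eq_symm_apply]
      exact IrreducibleCloseds.ext hz.symm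
    have h5 := Order.length_le_height (p := q.map (irreducibleSetEquivPoints (α := X))
      (irreducibleSetEquivPoints (α := X)).strictMono) (x := z) (by
        rw [LTSeries.last_map, he])
    exact h5
  have h5 : ((Order.height z + Order.coheight z : ℕ∞) : WithBot ℕ∞) ≤ topologicalKrullDim X := by
    have : Nonempty X := ⟨z⟩
    rw [topologicalKrullDim, Order.krullDim_eq_of_orderIso (irreducibleSetEquivPoints (α := X)),
      Order.krullDim_eq_iSup_height_add_coheight_of_nonempty]
    exact WithBot.coe_le_coe.2 (le_iSup (fun a : X => Order.height a + Order.coheight a) z)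
  have h6 : ((n : ℕ∞) + 2) ≤ Order.height z + Order.coheight z := add_le_add h4 h3
  have h7 : (((n : ℕ∞) + 2 : ℕ∞) : WithBot ℕ∞) ≤ (d : WithBot ℕ∞) :=
    (WithBot.coe_le_coe.2 h6).trans (h5.trans hX)
  exact_mod_cast h7

theorem dimLt_compl {X : Scheme.{u}} [IsNoetherian X] (d : ℕ) (hX : topologicalKrullDim X ≤ d)
    (V : X.Opens) (hV : ∀ y : X, ringKrullDim (X.presheaf.stalk y) ≤ 1 → y ∈ V) :
    DimLt ((V : Set X)ᶜ) (d - 1) := by
  intro n hn
  obtain ⟨q, hq, hqV⟩ := (le_dim_iff _ n).1 hn
  have hVc : IsClosed ((V : Set X)ᶜ) := V.isOpen.isClosed_compl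
  have hqV' : (q.last : Set X) ⊆ (V : Set X)ᶜ := by
    intro x hx
    have h2 : (x : X) ∈ closure ((q (Fin.last _) : Set X) ∩ (V : Set X)ᶜ) := by rw [hqV]; exact hx
    exact closure_minimal Set.inter_subset_right hVc h2
  obtain ⟨z, hz⟩ := QuasiSober.sober q.last.isIrreducible q.last.isClosed
  have hzV : z ∉ V := hqV' hz.mem
  have h := dim_bound d hX z (fun h => hzV (hV z h)) n q hq hz.def
  omega

end K399.OffCodim2
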